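-- helper25: SPU (S2316) package [LAGRANK]
import Cfsg.Agent.Lib.Helper19.SPU.Defs

set_option autoImplicit false

namespace Cfsg.Agent.Lib.Helper25.SPU

open Matrix Polynomial Cfsg.Agent.Lib.Helper19.SPU

universe u

theorem mrank_add_le {F : Type u} [Field F] {n : Type} [Fintype n] [DecidableEq n]
    (A B : Matrix n n F) : (A + B).rank ≤ A.rank + B.rank := by
  unfold Matrix.rank
  have h : LinearMap.range (A + B).mulVecLin ≤
      LinearMap.range A.mulVecLin ⊔ LinearMap.range B.mulVecLin := by
    rintro _ ⟨x, rfl⟩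
    rw [Matrix.mulVecLin_add]
    exact Submodule.add_mem_sup ⟨x, rfl⟩ ⟨x, rfl⟩
  exact (Submodule.finrank_mono h).trans (Submodule.finrank_add_le_finrank_add_finrank _ _)

/-- [LAGRANK] for `X` in the affine family with `X² + X` nilpotent, the stable rank of `X` is
half the size. -/
theorem pkgLagRank : PkgLagRank.{u} := by
  intro F _ n _ _ K X hK hA hnil
  classical
  obtain ⟨hKt, -, hKu⟩ := hK
  have hKdet : IsUnit K.det := (Matrix.isUnit_iff_isUnit_det K).mp hKu
  set c := Fintype.card n with hc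
  set Y : Matrix n n F := -X - 1 with hY
  -- X and Y commute, X * Y nilpotent
  have hXY : X * Y = -(X * X + X) := by
    rw [hY]; noncomm_ring
  have hcomm : Commute X Y := by
    show X * Y = Y * X
    rw [hY]; noncomm_ring
  have hnil' : IsNilpotent (X * Y) := by
    rw [hXY]; exact hnil.neg
  have h0 : X ^ c * Y ^ c = 0 := by
    rw [← hcomm.mul_pow]
    exact Cfsg.Agent.Lib.Helper40.isNilpotent_pow_card hnil' le_rfl
  have hle : (X ^ c).rank + (Y ^ c).rank ≤ c :=
    Matrix.rank_add_rank_le_card_of_mul_eq_zero h0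
  -- Bezout
  have hcop : IsCoprime ((Polynomial.X : F[X]) ^ c) ((-Polynomial.X - 1 : F[X]) ^ c) := by
    apply IsCoprime.pow
    exact ⟨-1, -1, by ring⟩
  obtain ⟨a, b, hab⟩ := hcop
  have hev := congrArg (Polynomial.aeval X) hab
  simp only [map_add, map_mul, map_pow, Polynomial.aeval_X, map_sub, map_neg, map_one] at hev
  rw [← hY] at hev
  have hge : c ≤ (X ^ c).rank + (Y ^ c).rank := by
    have h1 : (1 : Matrix n n F).rank = c := Matrix.rank_one
    have h2 : ((Polynomial.aeval X) a * X ^ c + (Polynomial.aeval X) b * Y ^ c).rank ≤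
        (X ^ c).rank + (Y ^ c).rank :=
      (mrank_add_le _ _).trans
        (add_le_add (Matrix.rank_mul_le_right _ _) (Matrix.rank_mul_le_right _ _))
    rw [hev, h1] at h2
    exact h2
  -- equal ranks
  have hsemi : SemiconjBy K Y Xᵀ := by
    show K * Y = Xᵀ * K
    have hA' : Xᵀ * K + K * X + K = 0 := hA
    rw [hY, Matrix.mul_sub, Matrix.mul_neg, Matrix.mul_one]
    have : Xᵀ * K = -(K * X) - K := by
      rw [eq_sub_iff_add_eq, eq_neg_iff_add_eq_zero, ← hA']
      abel
    rw [this]
  have hpow : K * Y ^ c = Xᵀ ^ c * K := (hsemi.pow_right c).eq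
  have heq : (Y ^ c).rank = (X ^ c).rank := by
    rw [← Matrix.rank_mul_eq_right_of_isUnit_det K (Y ^ c) hKdet, hpow,
      Matrix.rank_mul_eq_left_of_isUnit_det K _ hKdet, ← Matrix.transpose_pow,
      Matrix.rank_transpose]
  omega

end Cfsg.Agent.Lib.Helper25.SPU
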