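-- helper25: SPU (S2316) package [QID]
import Cfsg.Agent.Lib.Helper19.SPU.Defs

set_option autoImplicit false

namespace Cfsg.Agent.Lib.Helper25.SPU

open Cfsg.Agent.Lib.Helper19.SPU

/-- A power series fixed by `D ↦ P * rescale t D` with zero constant term vanishes. -/
theorem ps_uniq (t : ℚ) (ht : ∀ n : ℕ, 1 ≤ n → t ^ n ≠ 1) (P D : PowerSeries ℚ)
    (hP : PowerSeries.constantCoeff P = 1) (h0 : PowerSeries.constantCoeff D = 0)
    (h : D = P * PowerSeries.rescale t D) : D = 0 := by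
  ext n
  rw [map_zero]
  induction n using Nat.strong_induction_on with
  | _ n ih =>
    rcases Nat.eq_zero_or_pos n with hn | hn
    · subst hn
      rw [PowerSeries.coeff_zero_eq_constantCoeff_apply]
      exact h0
    · have h1 : PowerSeries.coeff n D = PowerSeries.coeff n (P * PowerSeries.rescale t D) := by
        rw [← h]
      rw [PowerSeries.coeff_mul, Finset.sum_eq_single (0, n)] at h1
      · rw [PowerSeries.coeff_rescale, PowerSeries.coeff_zero_eq_constantCoeff_apply, hP,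
          one_mul] at h1
        have h2 : (t ^ n - 1) * PowerSeries.coeff n D = 0 := by linear_combination -h1
        rcases mul_eq_zero.mp h2 with h3 | h3
        · exact absurd (sub_eq_zero.mp h3) (ht n hn)
        · exact h3
      · rintro ⟨i, j⟩ hij hne
        rw [Finset.HasAntidiagonal.mem_antidiagonal] at hij
        have hij' : i + j = n := hij
        have hj : j < n := by
          rcases Nat.eq_zero_or_pos i with hi | hi
          · exfalso
            apply hne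
            subst hi
            rw [zero_add] at hij'
            rw [hij']
          · omega
        rw [PowerSeries.coeff_rescale, ih j hj, mul_zero, mul_zero]
      · intro hnot
        exact absurd (Finset.HasAntidiagonal.mem_antidiagonal.mpr (zero_add n)) hnot

/-- The functional equation of a series from the two-term recursion of its coefficients. -/
theorem ps_feq (c : ℕ → ℚ) (α t : ℚ)
    (h : ∀ n, c (n + 1) = t ^ (n + 1) * c (n + 1) - α * (t ^ n * c n)) :
    PowerSeries.mk c =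
      (1 - PowerSeries.C α * PowerSeries.X) * PowerSeries.rescale t (PowerSeries.mk c) := by
  rw [sub_mul, one_mul, mul_assoc]
  ext n
  rw [map_sub, PowerSeries.coeff_mk, PowerSeries.coeff_C_mul]
  cases n with
  | zero =>
    rw [PowerSeries.coeff_zero_X_mul, PowerSeries.coeff_rescale, PowerSeries.coeff_mk]
    simp
  | succ n =>
    rw [PowerSeries.coeff_succ_X_mul, PowerSeries.coeff_rescale, PowerSeries.coeff_rescale,
      PowerSeries.coeff_mk, PowerSeries.coeff_mk]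
    exact h n

/-- [QID] the `q`-series identity. -/
theorem pkgQid : PkgQid := by
  intro q hq
  have hq1 : (1 : ℚ) < (q : ℚ) := by exact_mod_cast (show 1 < q by omega)
  have hq0 : (q : ℚ) ≠ 0 := by positivity
  have hQ1 : (1 : ℚ) < (q : ℚ) ^ 2 := one_lt_pow₀ hq1 (by omega)
  have hden : ∀ i : ℕ, (q : ℚ) ^ (2 * (i + 1)) - 1 ≠ 0 := fun i =>
    ne_of_gt (sub_pos.mpr (one_lt_pow₀ hq1 (by omega)))
  have hD : ∀ m : ℕ, ∏ i ∈ Finset.range m, ((q : ℚ) ^ (2 * (i + 1)) - 1) ≠ 0 := fun m =>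
    Finset.prod_ne_zero_iff.mpr (fun i _ => hden i)
  have hE : ∀ k : ℕ, ∏ i ∈ Finset.range k, ((q : ℚ) ^ k - (q : ℚ) ^ i) ≠ 0 := fun k =>
    Finset.prod_ne_zero_iff.mpr (fun i hi =>
      ne_of_gt (sub_pos.mpr (pow_lt_pow_right₀ hq1 (Finset.mem_range.mp hi))))
  have hEsucc : ∀ k : ℕ, ∏ i ∈ Finset.range (k + 1), ((q : ℚ) ^ (k + 1) - (q : ℚ) ^ i) =
      ((q : ℚ) ^ (k + 1) - 1) * (q : ℚ) ^ k *
        ∏ i ∈ Finset.range k, ((q : ℚ) ^ k - (q : ℚ) ^ i) := by
    intro k
    rw [Finset.prod_range_succ', pow_zero]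
    have h1 : ∏ i ∈ Finset.range k, ((q : ℚ) ^ (k + 1) - (q : ℚ) ^ (i + 1)) =
        ∏ i ∈ Finset.range k, ((q : ℚ) * ((q : ℚ) ^ k - (q : ℚ) ^ i)) :=
      Finset.prod_congr rfl (fun i _ => by ring)
    rw [h1, Finset.prod_mul_distrib, Finset.prod_const, Finset.card_range]
    ring
  obtain ⟨a, ha⟩ : ∃ a : ℕ → ℚ, a = fun m : ℕ => ((q : ℚ) ^ (m * (2 * m + 1)) /
      ((q : ℚ) ^ (m ^ 2) * ∏ i ∈ Finset.range m, ((q : ℚ) ^ (2 * (i + 1)) - 1))) := ⟨_, rfl⟩
  obtain ⟨s, hs⟩ : ∃ s : ℕ → ℚ, s = fun k : ℕ => ((q : ℚ) ^ (2 * k ^ 2) /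
      ((q : ℚ) ^ (k ^ 2) * ∏ i ∈ Finset.range k, ((q : ℚ) ^ (2 * (i + 1)) - 1))) := ⟨_, rfl⟩
  obtain ⟨g, hg⟩ : ∃ g : ℕ → ℚ, g = fun k : ℕ => ((q : ℚ) ^ (k * (k - 1)) /
      ∏ i ∈ Finset.range k, ((q : ℚ) ^ k - (q : ℚ) ^ i)) := ⟨_, rfl⟩
  rw [← ha, ← hs, ← hg]
  -- ratios
  have ra : ∀ n, a (n + 1) * (((q : ℚ) ^ 2) ^ (n + 1) - 1) = ((q : ℚ) ^ 2) ^ (n + 1) * a n := by
    intro n
    have h1 := hD n
    have h2 := hden n
    have h3 : ((q : ℚ) ^ 2) ^ (n + 1) = (q : ℚ) ^ (2 * (n + 1)) := by rw [← pow_mul]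
    rw [ha]
    simp only []
    rw [Finset.prod_range_succ, h3]
    field_simp
    ring
  have rs : ∀ n, s (n + 1) * (((q : ℚ) ^ 2) ^ (n + 1) - 1) =
      (q : ℚ) * (((q : ℚ) ^ 2) ^ n * s n) := by
    intro n
    have h1 := hD n
    have h2 := hden n
    have h3 : ((q : ℚ) ^ 2) ^ (n + 1) = (q : ℚ) ^ (2 * (n + 1)) := by rw [← pow_mul]
    have h4 : ((q : ℚ) ^ 2) ^ n = (q : ℚ) ^ (2 * n) := by rw [← pow_mul]
    rw [hs]
    simp only []
    rw [Finset.prod_range_succ, h3, h4]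
    field_simp
    ring
  have rg : ∀ n, g (n + 1) * ((q : ℚ) ^ (n + 1) - 1) = (q : ℚ) ^ n * g n := by
    intro n
    have h1 := hE n
    have h2 : (q : ℚ) ^ (n + 1) - 1 ≠ 0 := ne_of_gt (sub_pos.mpr (one_lt_pow₀ hq1 (by omega)))
    have hexp : (n + 1) * (n + 1 - 1) = n + n + n * (n - 1) := by
      rcases n with _ | j
      · rfl
      · simp only [Nat.add_sub_cancel]
        ring
    rw [hg]
    simp only []
    rw [hEsucc, hexp, pow_add, pow_add]
    field_simp
  -- functional equations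
  have hA := ps_feq a ((q : ℚ) ^ 2) ((q : ℚ) ^ 2) (fun n => by linear_combination -(ra n))
  have hS := ps_feq s (q : ℚ) ((q : ℚ) ^ 2) (fun n => by linear_combination -(rs n))
  have hG := ps_feq g 1 (q : ℚ) (fun n => by linear_combination -(rg n))
  rw [map_one, one_mul] at hG
  have e1 : PowerSeries.rescale (q : ℚ) (PowerSeries.mk g) =
      (1 - PowerSeries.C (q : ℚ) * PowerSeries.X) *
        PowerSeries.rescale ((q : ℚ) ^ 2) (PowerSeries.mk g) := by
    conv_lhs => rw [hG]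
    rw [map_mul, map_sub, map_one, PowerSeries.rescale_X, PowerSeries.rescale_rescale, sq]
  have hG2 : PowerSeries.mk g = (1 - PowerSeries.X) * (1 - PowerSeries.C (q : ℚ) * PowerSeries.X) *
      PowerSeries.rescale ((q : ℚ) ^ 2) (PowerSeries.mk g) := by
    calc PowerSeries.mk g = (1 - PowerSeries.X) * PowerSeries.rescale (q : ℚ) (PowerSeries.mk g) := hG
      _ = _ := by rw [e1, mul_assoc]
  obtain ⟨L, hLdef⟩ : ∃ L : PowerSeries ℚ,
      L = (1 - PowerSeries.X) * PowerSeries.mk a * PowerSeries.mk s := ⟨_, rfl⟩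
  rw [← hLdef]
  have e2 : PowerSeries.rescale ((q : ℚ) ^ 2) L =
      (1 - PowerSeries.C ((q : ℚ) ^ 2) * PowerSeries.X) *
        PowerSeries.rescale ((q : ℚ) ^ 2) (PowerSeries.mk a) *
        PowerSeries.rescale ((q : ℚ) ^ 2) (PowerSeries.mk s) := by
    rw [hLdef, map_mul, map_mul, map_sub, map_one, PowerSeries.rescale_X]
  have hL : L = (1 - PowerSeries.X) * (1 - PowerSeries.C (q : ℚ) * PowerSeries.X) *
      PowerSeries.rescale ((q : ℚ) ^ 2) L := by
    rw [e2, hLdef]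
    linear_combination (1 - PowerSeries.X) * PowerSeries.mk s * hA +
      (1 - PowerSeries.X) * (1 - PowerSeries.C ((q : ℚ) ^ 2) * PowerSeries.X) *
        PowerSeries.rescale ((q : ℚ) ^ 2) (PowerSeries.mk a) * hS
  have hDf : L - PowerSeries.mk g = ((1 - PowerSeries.X) *
      (1 - PowerSeries.C (q : ℚ) * PowerSeries.X)) *
      PowerSeries.rescale ((q : ℚ) ^ 2) (L - PowerSeries.mk g) := by
    rw [map_sub, mul_sub]
    linear_combination hL - hG2
  have hP : PowerSeries.constantCoeff ((1 - PowerSeries.X) *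
      (1 - PowerSeries.C (q : ℚ) * PowerSeries.X)) = (1 : ℚ) := by
    simp
  have h0 : PowerSeries.constantCoeff (L - PowerSeries.mk g) = (0 : ℚ) := by
    rw [hLdef, map_sub, map_mul, map_mul, ← PowerSeries.coeff_zero_eq_constantCoeff_apply,
      ← PowerSeries.coeff_zero_eq_constantCoeff_apply,
      ← PowerSeries.coeff_zero_eq_constantCoeff_apply,
      ← PowerSeries.coeff_zero_eq_constantCoeff_apply, PowerSeries.coeff_mk,
      PowerSeries.coeff_mk, PowerSeries.coeff_mk, ha, hs, hg]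
    simp
  have hfin := ps_uniq ((q : ℚ) ^ 2)
    (fun n hn => ne_of_gt (one_lt_pow₀ hQ1 (by omega))) _ _ hP h0 hDf
  exact sub_eq_zero.mp hfin

end Cfsg.Agent.Lib.Helper25.SPU
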